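import Mathlib
import Cfsg.Prelude.Def_Spor_ON
import Cfsg.Agent.Lib.CosetTable.Presentation

/-!
The presentation of O'N rewritten in seven involutions `a, ..., f, t` with `t = c d c d g`.
-/

namespace Cfsg.Agent.Lib.CosetTable.ONPres

section Algebra

variable {G : Type*} [Group G]

theorem commute_sq {c d g : G} (hc : c * c = 1) (hd : d * d = 1) (hg : g * g = (c * d) ^ 4)
    (hcd : (c * d) ^ 8 = 1) (hC : Commute c (d * g * d * g)) (hD : Commute d (c * g * c * g)) :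
    Commute g ((c * d) ^ 2) := by
  obtain ⟨z, hz⟩ : ∃ z, z = g * g := ⟨_, rfl⟩
  have zz : z * z = 1 := by rw [hz, hg, ← pow_add]; exact hcd
  have zg : Commute z g := by rw [hz]; exact (Commute.refl g).mul_left (Commute.refl g)
  have cinv : c⁻¹ = c := inv_eq_of_mul_eq_one_right hc
  have dinv : d⁻¹ = d := inv_eq_of_mul_eq_one_right hd
  have zinv : z⁻¹ = z := inv_eq_of_mul_eq_one_right zz
  have zc : Commute z c := by
    have h : c * (c * d) ^ 4 * c⁻¹ = ((c * d) ^ 4)⁻¹ := by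
      rw [← conj_pow, ← inv_pow, mul_inv_rev, cinv, dinv]
      congr 1
      calc c * (c * d) * c = c * c * d * c := by group
        _ = d * c := by rw [hc, one_mul]
    rw [← hg, ← hz, zinv] at h
    exact (mul_inv_eq_iff_eq_mul.mp h).symm
  have zd : Commute z d := by
    have h : Commute z (c * d) := by rw [hz, hg]; exact (Commute.refl (c * d)).pow_left 4
    simpa [← mul_assoc, hc] using zc.mul_right h
  set u := c * g * c * g with hu
  set v := d * g * d * g with hv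
  have zu : Commute z u := ((zc.mul_right zg).mul_right zc).mul_right zg
  have zv : Commute z v := ((zd.mul_right zg).mul_right zd).mul_right zg
  have rev : ∀ e : G, e * e = 1 → Commute z e → (e * g * e * g)⁻¹ = g * e * g * e := by
    intro e he ze
    refine inv_eq_of_mul_eq_one_right ?_
    calc e * g * e * g * (g * e * g * e) = e * g * e * (g * g) * e * g * e := by group
      _ = e * g * (z * e) * e * g * e := by rw [← hz, mul_assoc (e * g) e z, ze.eq.symm]
      _ = e * g * z * (e * e) * g * e := by group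
      _ = e * g * z * g * e := by rw [he, mul_one]
      _ = e * (g * z) * g * e := by group
      _ = e * (z * g) * g * e := by rw [zg.eq]
      _ = e * z * (g * g) * e := by group
      _ = e * (z * z) * e := by rw [← hz]; group
      _ = 1 := by rw [zz, mul_one, he]
  have uc : u * c = c * u⁻¹ := by rw [rev c hc zc, hu]; group
  have vd : v * d = d * v⁻¹ := by rw [rev d hd zd, hv]; group
  have gv : g * v * g⁻¹ = v⁻¹ := by rw [rev d hd zd, hv]; group
  have gv' : g * v⁻¹ * g⁻¹ = v := by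
    calc g * v⁻¹ * g⁻¹ = (g * v * g⁻¹)⁻¹ := by group
      _ = v := by rw [gv, inv_inv]
  have cvi : c * v⁻¹ * c⁻¹ = v⁻¹ := by rw [(hC.inv_right).eq, mul_inv_cancel_right]
  have uv : Commute u v := by
    have : u * v * u⁻¹ = v := by
      calc u * v * u⁻¹ = c * (g * (c * (g * v * g⁻¹) * c⁻¹) * g⁻¹) * c⁻¹ := by rw [hu]; group
        _ = c * v * c⁻¹ := by rw [gv, cvi, gv']
        _ = v := by rw [hC.eq, mul_inv_cancel_right]
    exact mul_inv_eq_iff_eq_mul.mp this
  have conj : ∀ e : G, e * e = 1 → g * e * g⁻¹ = e * (e * g * e * g) * z := by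
    intro e he
    have : e * (e * g * e * g) = g * e * g := by
      calc e * (e * g * e * g) = e * e * g * e * g := by group
        _ = _ := by rw [he, one_mul]
    rw [this, ← zinv, hz]; group
  have gcd : g * (c * d) * g⁻¹ = c * d * (u * v) := by
    calc g * (c * d) * g⁻¹ = (g * c * g⁻¹) * (g * d * g⁻¹) := by group
      _ = (c * u * z) * (d * v * z) := by rw [conj c hc, conj d hd]
      _ = c * u * (z * (d * v)) * z := by group
      _ = c * u * ((d * v) * z) * z := by rw [(zd.mul_right zv).eq]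
      _ = c * (u * d) * v * (z * z) := by group
      _ = c * d * (u * v) := by rw [zz, mul_one, hD.symm.eq]; group
  have move : u * v * (c * d) = c * d * (u⁻¹ * v⁻¹) := by
    calc u * v * (c * d) = u * (v * c) * d := by group
      _ = u * c * (v * d) := by rw [hC.symm.eq]; group
      _ = c * (u⁻¹ * d) * v⁻¹ := by rw [uc, vd]; group
      _ = c * d * (u⁻¹ * v⁻¹) := by rw [(hD.inv_right).symm.eq]; group
  have key : g * (c * d) ^ 2 * g⁻¹ = (c * d) ^ 2 := by
    rw [← conj_pow, gcd, pow_two, pow_two]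
    calc c * d * (u * v) * (c * d * (u * v)) = c * d * (u * v * (c * d)) * (u * v) := by group
      _ = c * d * (c * d * (u⁻¹ * v⁻¹)) * (v * u) := by rw [move, uv.eq]
      _ = c * d * (c * d) := by group
  exact mul_inv_eq_iff_eq_mul.mp key

/-- the six Coxeter generators -/
def node (n : ℕ) : Cfsg.Spor.ON.Gen := [.a, .b, .c, .d, .e, .f].getD n .a

/-- their labels -/
def lab (i j : ℕ) : ℕ := Cfsg.Spor.coxLabel Cfsg.Spor.ON.edges (node i) (node j)

/-- the Coxeter relations -/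
def Cox (x : ℕ → G) : Prop := ∀ i j, i < 6 → j < 6 → (x i * x j) ^ lab i j = 1

variable {x : ℕ → G}

theorem Cox.sq (h : Cox x) {i : ℕ} (hi : i < 6) : x i * x i = 1 := by
  simpa [lab, Cfsg.Spor.coxLabel] using h i i hi hi

theorem Cox.inv (h : Cox x) {i : ℕ} (hi : i < 6) : (x i)⁻¹ = x i :=
  inv_eq_of_mul_eq_one_right (h.sq hi)

end Algebra

/-- the relators in the seven involutions besides the Coxeter ones -/
def extraW : List (List ℕ) := [[6, 6], [0, 5, 3, 2, 3, 2, 3, 2, 3, 2],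
  [6, 2, 3, 2, 3, 6, 3, 2, 3, 2], [2, 6, 3, 6, 3, 2, 3, 6, 3, 6],
  [3, 6, 2, 6, 2, 3, 2, 6, 2, 6],
  (List.replicate 5 [1, 3, 2, 6]).flatten,
  [2, 6, 1, 2, 6, 3, 2, 3, 1, 3, 2, 3, 2, 6, 1, 2, 6],
  [3, 6, 4, 3, 6, 3, 2, 3, 2, 3, 4, 3, 2, 3, 2, 6, 4, 3, 6]]

/-- all relators -/
def relW : List (List ℕ) :=
  ((List.range 6).flatMap fun i => (List.range' i (6 - i)).map fun j =>
    (List.replicate (lab i j) [i, j]).flatten) ++ extraW

section Equivalence

variable {G : Type*} [Group G]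

/-- the product of a word -/
def pr (x : ℕ → G) (w : List ℕ) : G := (w.map x).prod

theorem pr_replicate (x : ℕ → G) (w : List ℕ) : ∀ m,
    pr x (List.replicate m w).flatten = pr x w ^ m
  | 0 => by simp [pr]
  | m + 1 => by
    rw [pow_succ', ← pr_replicate x w m, List.replicate_succ, List.flatten_cons]
    simp [pr]

/-- the extra relators of the printed presentation -/
structure Printed (x : ℕ → G) (g : G) : Prop where
  cox : Cox x
  r1 : (x 0 * x 5) * ((g ^ 2)⁻¹) = 1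
  r2 : (x 0 * x 5) * (((x 2 * x 3) ^ 4)⁻¹) = 1
  r3 : x 2 * ((x 3 * g * x 3 * g)⁻¹ * x 2 * (x 3 * g * x 3 * g)) = 1
  r4 : x 3 * ((x 2 * g * x 2 * g)⁻¹ * x 3 * (x 2 * g * x 2 * g)) = 1
  r5 : (x 1 * x 2 * x 3 * g) ^ 5 = 1
  r6 : g * x 1 * ((x 2)⁻¹ * g * x 2) * ((x 1)⁻¹ * g * x 1) * ((x 2)⁻¹ * g * x 2) = 1
  r7 : g * x 4 * ((x 3)⁻¹ * g * x 3) * ((x 4)⁻¹ * g * x 4) * ((x 3)⁻¹ * g * x 3) = 1

/-- the relators in seven involutions -/
structure Invol (x : ℕ → G) : Prop where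
  cox : Cox x
  s : x 6 * x 6 = 1
  z : x 0 * x 5 = (x 2 * x 3) ^ 4
  k : Commute (x 6) ((x 2 * x 3) ^ 2)
  c : Commute (x 2) (x 3 * x 6 * x 3 * x 6)
  d : Commute (x 3) (x 2 * x 6 * x 2 * x 6)
  r5 : (x 1 * x 3 * x 2 * x 6) ^ 5 = 1
  r6 : pr x [2, 6, 1, 2, 6, 3, 2, 3, 1, 3, 2, 3, 2, 6, 1, 2, 6] = 1
  r7 : pr x [3, 6, 4, 3, 6, 3, 2, 3, 2, 3, 4, 3, 2, 3, 2, 6, 4, 3, 6] = 1

theorem commute_of_rel {c w : G} (hc : c * c = 1) (h : c * (w⁻¹ * c * w) = 1) : Commute c w := by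
  have h2 : w⁻¹ * c * w = c := by
    rw [← inv_eq_of_mul_eq_one_right h]; exact inv_eq_of_mul_eq_one_right hc
  rw [commute_iff_eq]
  nth_rewrite 2 [← h2]
  group

theorem rel_of_commute {c w : G} (hc : c * c = 1) (h : Commute c w) :
    c * (w⁻¹ * c * w) = 1 := by
  rw [mul_assoc w⁻¹, h.eq, inv_mul_cancel_left, hc]

/-- both ways of writing `g` -/
theorem two_forms {x : ℕ → G} (hx : Cox x) {t : G} (hk : Commute t ((x 2 * x 3) ^ 2)) :
    x 3 * x 2 * x 3 * x 2 * t = t * (x 3 * x 2 * x 3 * x 2) := by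
  have e : ((x 2 * x 3) ^ 2)⁻¹ = x 3 * x 2 * x 3 * x 2 := by
    simp [pow_two, mul_assoc, hx.inv]
  rw [← e]
  exact hk.symm.inv_left.eq

theorem forms_aux {c d t g : G} (hc : c * c = 1) (hd : d * d = 1) (hg : g = d * c * d * c * t)
    (hg' : g = t * (d * c * d * c)) :
    d * g * d * g = d * t * d * t ∧ c * g * c * g = c * t * c * t := by
  have c1 : ∀ y, c * (c * y) = y := fun y => by rw [← mul_assoc, hc, one_mul]
  have d1 : ∀ y, d * (d * y) = y := fun y => by rw [← mul_assoc, hd, one_mul]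
  constructor <;> (nth_rewrite 1 [hg']; nth_rewrite 1 [hg]; simp [mul_assoc, c1, d1, hc, hd])

theorem rewrite_g {x : ℕ → G} {g : G} (hx : Cox x)
    (hg : g = x 3 * x 2 * x 3 * x 2 * x 6) (hg' : g = x 6 * (x 3 * x 2 * x 3 * x 2)) :
    (x 1 * x 2 * x 3 * g = x 1 * x 3 * x 2 * x 6) ∧
    (g * x 1 * ((x 2)⁻¹ * g * x 2) * ((x 1)⁻¹ * g * x 1) * ((x 2)⁻¹ * g * x 2) =
      (x 3 * x 2 * x 3) * pr x [2, 6, 1, 2, 6, 3, 2, 3, 1, 3, 2, 3, 2, 6, 1, 2, 6] *
        (x 3 * x 2 * x 3)⁻¹) ∧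
    (g * x 4 * ((x 3)⁻¹ * g * x 3) * ((x 4)⁻¹ * g * x 4) * ((x 3)⁻¹ * g * x 3) =
      (x 3 * x 2 * x 3 * x 2 * x 3) *
        pr x [3, 6, 4, 3, 6, 3, 2, 3, 2, 3, 4, 3, 2, 3, 2, 6, 4, 3, 6] *
        (x 3 * x 2 * x 3 * x 2 * x 3)⁻¹) := by
  have c1 : ∀ {i}, i < 6 → ∀ y, x i * (x i * y) = y := fun hi y => by
    rw [← mul_assoc, hx.sq hi, one_mul]
  refine ⟨?_, ?_, ?_⟩
  · rw [hg]; simp [mul_assoc, c1]
  · conv_lhs =>
      rw [show g * x 1 * ((x 2)⁻¹ * g * x 2) * ((x 1)⁻¹ * g * x 1) * ((x 2)⁻¹ * g * x 2) =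
        (x 3 * x 2 * x 3 * x 2 * x 6) * x 1 * ((x 2)⁻¹ * (x 6 * (x 3 * x 2 * x 3 * x 2)) * x 2) *
          ((x 1)⁻¹ * (x 3 * x 2 * x 3 * x 2 * x 6) * x 1) *
          ((x 2)⁻¹ * (x 6 * (x 3 * x 2 * x 3 * x 2)) * x 2) by rw [← hg, ← hg']]
    simp [pr, mul_assoc, c1, hx.inv, hx.sq]
  · conv_lhs =>
      rw [show g * x 4 * ((x 3)⁻¹ * g * x 3) * ((x 4)⁻¹ * g * x 4) * ((x 3)⁻¹ * g * x 3) =
        (x 3 * x 2 * x 3 * x 2 * x 6) * x 4 * ((x 3)⁻¹ * (x 6 * (x 3 * x 2 * x 3 * x 2)) * x 3) *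
          ((x 4)⁻¹ * (x 3 * x 2 * x 3 * x 2 * x 6) * x 4) *
          ((x 3)⁻¹ * (x 6 * (x 3 * x 2 * x 3 * x 2)) * x 3) by rw [← hg, ← hg']]
    simp [pr, mul_assoc, c1, hx.inv, hx.sq]

theorem Printed.invol {x : ℕ → G} {g : G} (h : Printed x g)
    (ht : x 6 = x 2 * x 3 * x 2 * x 3 * g) : Invol x := by
  have h2 := h.cox.sq (i := 2) (by omega)
  have h3 := h.cox.sq (i := 3) (by omega)
  have h8 : (x 2 * x 3) ^ 8 = 1 := by
    simpa [lab, node, Cfsg.Spor.coxLabel, Cfsg.Spor.ON.edges] using h.cox 2 3 (by omega) (by omega)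
  have e1 := mul_inv_eq_one.mp h.r1
  have e2 := mul_inv_eq_one.mp h.r2
  have hgg : g * g = (x 2 * x 3) ^ 4 := by rw [← pow_two, ← e1, e2]
  have hk := commute_sq h2 h3 hgg h8 (commute_of_rel h2 h.r3) (commute_of_rel h3 h.r4)
  have hp : x 2 * x 3 * x 2 * x 3 = (x 2 * x 3) ^ 2 := by rw [pow_two]; group
  have hk6 : Commute (x 6) ((x 2 * x 3) ^ 2) := by
    rw [ht, hp]; exact (Commute.refl _).mul_left hk
  have hg : g = x 3 * x 2 * x 3 * x 2 * x 6 := by
    have c1 : ∀ {i}, i < 6 → ∀ y, x i * (x i * y) = y := fun hi y => by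
      rw [← mul_assoc, h.cox.sq hi, one_mul]
    rw [ht]; simp [mul_assoc, c1]
  have hg' := hg.trans (two_forms h.cox hk6)
  obtain ⟨ed, ec⟩ := forms_aux h2 h3 hg hg'
  obtain ⟨q5, q6, q7⟩ := rewrite_g h.cox hg hg'
  refine ⟨h.cox, ?_, e2, hk6, ?_, ?_, ?_, ?_, ?_⟩
  · rw [ht, hp]
    calc (x 2 * x 3) ^ 2 * g * ((x 2 * x 3) ^ 2 * g)
        = (x 2 * x 3) ^ 2 * (g * (x 2 * x 3) ^ 2) * g := by group
      _ = ((x 2 * x 3) ^ 2 * (x 2 * x 3) ^ 2) * (g * g) := by rw [hk.eq]; group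
      _ = 1 := by rw [hgg, ← pow_add, ← pow_add]; exact h8
  · rw [← ed]; exact commute_of_rel h2 h.r3
  · rw [← ec]; exact commute_of_rel h3 h.r4
  · rw [← q5]; exact h.r5
  · exact (conj_eq_one_iff).mp (q6.symm.trans h.r6)
  · exact (conj_eq_one_iff).mp (q7.symm.trans h.r7)

theorem Invol.printed {x : ℕ → G} (h : Invol x) :
    Printed x (x 3 * x 2 * x 3 * x 2 * x 6) := by
  have h2 := h.cox.sq (i := 2) (by omega)
  have h3 := h.cox.sq (i := 3) (by omega)
  set g := x 3 * x 2 * x 3 * x 2 * x 6 with hg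
  have hg' : g = x 6 * (x 3 * x 2 * x 3 * x 2) := two_forms h.cox h.k
  have h8 : (x 2 * x 3) ^ 8 = 1 := by
    simpa [lab, node, Cfsg.Spor.coxLabel, Cfsg.Spor.ON.edges] using h.cox 2 3 (by omega) (by omega)
  have hgg : g * g = (x 2 * x 3) ^ 4 := by
    have e : x 3 * x 2 * x 3 * x 2 = ((x 2 * x 3) ^ 2)⁻¹ := by
      simp [pow_two, mul_assoc, h.cox.inv]
    nth_rewrite 2 [hg']
    rw [hg, e]
    calc ((x 2 * x 3) ^ 2)⁻¹ * x 6 * (x 6 * ((x 2 * x 3) ^ 2)⁻¹)
        = ((x 2 * x 3) ^ 2)⁻¹ * (x 6 * x 6) * ((x 2 * x 3) ^ 2)⁻¹ := by group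
      _ = ((x 2 * x 3) ^ 4)⁻¹ := by rw [h.s]; group
      _ = _ := inv_eq_of_mul_eq_one_right (by rw [← pow_add]; exact h8)
  obtain ⟨ed, ec⟩ := forms_aux h2 h3 hg hg'
  obtain ⟨q5, q6, q7⟩ := rewrite_g h.cox hg hg'
  refine ⟨h.cox, ?_, ?_, ?_, ?_, ?_, ?_, ?_⟩
  · rw [pow_two, hgg, mul_inv_eq_one]; exact h.z
  · rw [mul_inv_eq_one]; exact h.z
  · exact rel_of_commute h2 (by rw [ed]; exact h.c)
  · exact rel_of_commute h3 (by rw [ec]; exact h.d)
  · rw [q5]; exact h.r5
  · rw [q6, h.r6]; group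
  · rw [q7, h.r7]; group

theorem invol_iff {x : ℕ → G} (hx : ∀ i, i < 7 → x i * x i = 1) :
    Invol x ↔ ∀ w ∈ relW, pr x w = 1 := by
  have hi : ∀ i, i < 7 → (x i)⁻¹ = x i := fun i h => inv_eq_of_mul_eq_one_right (hx i h)
  have cm : ∀ {a b b' : G}, a⁻¹ = a → b⁻¹ = b' → (a * b * (a * b') = 1 ↔ Commute a b) := by
    intro a b b' ha hb
    subst hb
    rw [commute_iff_eq]
    conv_lhs => arg 1; arg 2; arg 1; rw [← ha]
    constructor
    · intro h
      calc a * b = (a * b * (a⁻¹ * b⁻¹)) * (b * a) := by group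
        _ = b * a := by rw [h, one_mul]
    · intro h; rw [h]; group
  have ez : pr x [0, 5, 3, 2, 3, 2, 3, 2, 3, 2] = x 0 * x 5 * ((x 2 * x 3) ^ 4)⁻¹ := by
    simp [pr, pow_succ, mul_assoc, hi]
  have ek : pr x [6, 2, 3, 2, 3, 6, 3, 2, 3, 2] =
      x 6 * (x 2 * x 3) ^ 2 * (x 6 * (x 3 * x 2 * x 3 * x 2)) := by
    simp [pr, pow_two, mul_assoc]
  have ic : (x 6 * x 3 * x 6 * x 3)⁻¹ = x 3 * x 6 * x 3 * x 6 := by simp [mul_assoc, hi]
  have id' : (x 6 * x 2 * x 6 * x 2)⁻¹ = x 2 * x 6 * x 2 * x 6 := by simp [mul_assoc, hi]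
  have ec : pr x [2, 6, 3, 6, 3, 2, 3, 6, 3, 6] =
      x 2 * (x 6 * x 3 * x 6 * x 3) * (x 2 * (x 3 * x 6 * x 3 * x 6)) := by
    simp [pr, mul_assoc]
  have ed : pr x [3, 6, 2, 6, 2, 3, 2, 6, 2, 6] =
      x 3 * (x 6 * x 2 * x 6 * x 2) * (x 3 * (x 2 * x 6 * x 2 * x 6)) := by
    simp [pr, mul_assoc]
  have hkinv : ((x 2 * x 3) ^ 2)⁻¹ = x 3 * x 2 * x 3 * x 2 := by simp [pow_two, mul_assoc, hi]
  have hc5 : pr x [1, 3, 2, 6] = x 1 * x 3 * x 2 * x 6 := by simp [pr, mul_assoc]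
  constructor
  · intro h w hw
    simp only [relW, List.mem_append, List.mem_flatMap, List.mem_range, List.mem_map,
      List.mem_range'_1, extraW, List.mem_cons, List.not_mem_nil, or_false] at hw
    rcases hw with ⟨i, hi', j, hj, rfl⟩ | rfl | rfl | rfl | rfl | rfl | rfl | rfl | rfl
    · rw [pr_replicate]
      simpa [pr] using h.cox i j hi' (by omega)
    · simpa [pr] using h.s
    · rw [ez, mul_inv_eq_one]; exact h.z
    · rw [ek]; exact (cm (hi 6 (by omega)) hkinv).mpr h.k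
    · rw [ec, cm (hi 2 (by omega)) ic]
      have := h.c.inv_right; rwa [← ic, inv_inv] at this
    · rw [ed, cm (hi 3 (by omega)) id']
      have := h.d.inv_right; rwa [← id', inv_inv] at this
    · rw [pr_replicate, hc5]; exact h.r5
    · exact h.r6
    · exact h.r7
  · intro h
    have hm : ∀ w ∈ extraW, pr x w = 1 := fun w hw => h w (List.mem_append_right _ hw)
    have hcox : ∀ i j, i ≤ j → j < 6 → (x i * x j) ^ lab i j = 1 := by
      intro i j hij hj
      have := h ((List.replicate (lab i j) [i, j]).flatten) (List.mem_append_left _ (by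
        simp only [List.mem_flatMap, List.mem_range, List.mem_map, List.mem_range'_1]
        exact ⟨i, by omega, j, ⟨hij, by omega⟩, rfl⟩))
      rw [pr_replicate] at this
      simpa [pr] using this
    refine ⟨fun i j h1 h2 => ?_, ?_, ?_, ?_, ?_, ?_, ?_, ?_, ?_⟩
    · rcases le_total i j with hle | hle
      · exact hcox i j hle h2
      · have hs : lab j i = lab i j := by
          simp only [lab, Cfsg.Spor.coxLabel, eq_comm (a := node j) (b := node i), or_comm]
        have := hcox j i hle h1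
        rw [hs] at this
        rw [← inv_eq_one, ← inv_pow, mul_inv_rev, hi i (by omega), hi j (by omega)]
        exact this
    · exact hx 6 (by omega)
    · rw [← mul_inv_eq_one, ← ez]; exact hm _ (by simp [extraW])
    · exact (cm (hi 6 (by omega)) hkinv).mp (ek ▸ hm _ (by simp [extraW]))
    · have := ((cm (hi 2 (by omega)) ic).mp (ec ▸ hm _ (by simp [extraW]))).inv_right
      rwa [ic] at this
    · have := ((cm (hi 3 (by omega)) id').mp (ed ▸ hm _ (by simp [extraW]))).inv_right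
      rwa [id'] at this
    · rw [← hc5, ← pr_replicate]; exact hm _ (by simp [extraW])
    · exact hm _ (by simp [extraW])
    · exact hm _ (by simp [extraW])

end Equivalence

section Group

open Cfsg.Spor

/-- the numbered generators of the presented group -/
def gn (n : ℕ) : Cfsg.Spor.ON :=
  if n < 6 then PresentedGroup.of (node n)
  else if n = 6 then PresentedGroup.of ON.Gen.c * PresentedGroup.of ON.Gen.d *
    PresentedGroup.of ON.Gen.c * PresentedGroup.of ON.Gen.d * PresentedGroup.of ON.Gen.g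
  else 1

theorem node_mem (i : ℕ) : node i ∈ coxNodes ON.edges := by
  match i with
  | 0 | 1 | 2 | 3 | 4 | 5 => decide
  | _ + 6 => simp [node, coxNodes, ON.edges]

theorem gn_printed : Printed gn (PresentedGroup.of ON.Gen.g) := by
  have hx : ∀ r ∈ ON.extra, PresentedGroup.mk (coxRelators ON.edges ∪ {r | r ∈ ON.extra}) r = 1 :=
    fun r hr => PresentedGroup.one_of_mem (Or.inr hr)
  have hcox : Cox gn := by
    intro i j h1 h2
    have h : (FreeGroup.of (node i) * FreeGroup.of (node j)) ^ lab i j ∈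
        coxRelators ON.edges ∪ {r | r ∈ ON.extra} :=
      Or.inl ⟨_, node_mem i, _, node_mem j, rfl⟩
    have e := PresentedGroup.one_of_mem h
    rw [map_pow, map_mul] at e
    simp only [gn, h1, h2, if_true]
    exact e
  have a1 := hx _ List.mem_cons_self
  have a2 := hx _ (List.mem_cons_of_mem _ List.mem_cons_self)
  have a3 := hx _ (List.mem_cons_of_mem _ (List.mem_cons_of_mem _ List.mem_cons_self))
  have a4 := hx _ (List.mem_cons_of_mem _ (List.mem_cons_of_mem _ (List.mem_cons_of_mem _ List.mem_cons_self)))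
  have a5 := hx _ (List.mem_cons_of_mem _ (List.mem_cons_of_mem _ (List.mem_cons_of_mem _ (List.mem_cons_of_mem _ List.mem_cons_self))))
  have a6 := hx _ (List.mem_cons_of_mem _ (List.mem_cons_of_mem _ (List.mem_cons_of_mem _ (List.mem_cons_of_mem _ (List.mem_cons_of_mem _ List.mem_cons_self)))))
  have a7 := hx _ (List.mem_cons_of_mem _ (List.mem_cons_of_mem _ (List.mem_cons_of_mem _ (List.mem_cons_of_mem _ (List.mem_cons_of_mem _ (List.mem_cons_of_mem _ List.mem_cons_self))))))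
  simp only [map_mul, map_inv, map_pow] at a1 a2 a3 a4 a5 a6 a7
  exact ⟨hcox, a1, a2, a3, a4, a5, a6, a7⟩

theorem gn_invol : Invol gn := gn_printed.invol rfl

theorem gn_sq (i : ℕ) (hi : i < 7) : gn i * gn i = 1 := by
  rcases Nat.lt_or_eq_of_le (Nat.le_of_lt_succ hi) with h | rfl
  · exact gn_invol.cox.sq h
  · exact gn_invol.s

/-- any seven involutions satisfying the relators give an action of O'N -/
theorem exists_hom {H : Type*} [Group H] {x : ℕ → H} (h : Invol x) :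
    ∃ φ : Cfsg.Spor.ON →* H, ∀ i, i < 7 → φ (gn i) = x i := by
  let F : ON.Gen → H := fun
    | .g => x 3 * x 2 * x 3 * x 2 * x 6
    | .a => x 0 | .b => x 1 | .c => x 2 | .d => x 3 | .e => x 4 | .f => x 5
  have hP := h.printed
  have hrel : ∀ r ∈ coxRelators ON.edges ∪ {r | r ∈ ON.extra}, FreeGroup.lift F r = 1 := by
    rintro r (⟨p, hp, q, hq, rfl⟩ | hm)
    · have key : ∀ p ∈ coxNodes ON.edges, ∃ i, i < 6 ∧ node i = p ∧ F p = x i := by
        intro p hp
        cases p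
        · simp [coxNodes, ON.edges] at hp
        all_goals first
          | exact ⟨0, by omega, rfl, rfl⟩
          | exact ⟨1, by omega, rfl, rfl⟩
          | exact ⟨2, by omega, rfl, rfl⟩
          | exact ⟨3, by omega, rfl, rfl⟩
          | exact ⟨4, by omega, rfl, rfl⟩
          | exact ⟨5, by omega, rfl, rfl⟩
      obtain ⟨i, hi, rfl, ei⟩ := key p hp
      obtain ⟨j, hj, rfl, ej⟩ := key q hq
      rw [map_pow, map_mul, FreeGroup.lift_apply_of, FreeGroup.lift_apply_of, ei, ej]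
      exact hP.cox i j hi hj
    · change r ∈ ON.extra at hm
      simp only [ON.extra, List.mem_cons, List.not_mem_nil, or_false] at hm
      rcases hm with rfl | rfl | rfl | rfl | rfl | rfl | rfl <;>
        simp only [map_mul, map_inv, map_pow, FreeGroup.lift_apply_of, F]
      exacts [hP.r1, hP.r2, hP.r3, hP.r4, hP.r5, hP.r6, hP.r7]
  refine ⟨PresentedGroup.toGroup hrel, fun i hi => ?_⟩
  have e : ∀ y, PresentedGroup.toGroup hrel (PresentedGroup.of y) = F y := fun y =>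
    PresentedGroup.toGroup.of hrel
  match i, hi with
  | 0, _ | 1, _ | 2, _ | 3, _ | 4, _ | 5, _ => simp only [gn, node]; exact e _
  | 6, _ =>
    have c1 : ∀ y, x 2 * (x 2 * y) = y := fun y => by
      rw [← mul_assoc, h.cox.sq (by omega), one_mul]
    have d1 : ∀ y, x 3 * (x 3 * y) = y := fun y => by
      rw [← mul_assoc, h.cox.sq (by omega), one_mul]
    simp [gn, e, F, mul_assoc, c1, d1]

theorem gn_gen : Subgroup.closure {y : Cfsg.Spor.ON | ∃ g, g < 7 ∧ gn g = y} = ⊤ := by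
  rw [eq_top_iff, ← PresentedGroup.closure_range_of, Subgroup.closure_le]
  set S := Subgroup.closure {y : Cfsg.Spor.ON | ∃ g, g < 7 ∧ gn g = y}
  have m : ∀ i, i < 7 → gn i ∈ S := fun i hi => Subgroup.subset_closure ⟨i, hi, rfl⟩
  rintro _ ⟨p, rfl⟩
  cases p
  case a => exact m 0 (by omega)
  case b => exact m 1 (by omega)
  case c => exact m 2 (by omega)
  case d => exact m 3 (by omega)
  case e => exact m 4 (by omega)
  case f => exact m 5 (by omega)
  case g =>
    have e : (PresentedGroup.of ON.Gen.g : Cfsg.Spor.ON) = gn 3 * gn 2 * gn 3 * gn 2 * gn 6 := by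
      have c1 : ∀ y, gn 2 * (gn 2 * y) = y := fun y => by
        rw [← mul_assoc, gn_invol.cox.sq (by omega), one_mul]
      have d1 : ∀ y, gn 3 * (gn 3 * y) = y := fun y => by
        rw [← mul_assoc, gn_invol.cox.sq (by omega), one_mul]
      conv_rhs => arg 2; change gn 2 * gn 3 * gn 2 * gn 3 * PresentedGroup.of ON.Gen.g
      simp [mul_assoc, c1, d1]
    rw [e]
    exact mul_mem (mul_mem (mul_mem (mul_mem (m 3 (by omega)) (m 2 (by omega))) (m 3 (by omega)))
      (m 2 (by omega))) (m 6 (by omega))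

theorem eval_eq_one {H : Type*} [Group H] {x : ℕ → H} (hx : ∀ i, i < 7 → x i * x i = 1)
    {w : List ℕ} (hw : ∀ a ∈ w, a < 7) : eval x w = 1 ↔ pr x w = 1 := by
  rw [eval_eq_prod_reverse, ← inv_eq_one, List.prod_inv_reverse, List.map_reverse,
    List.map_reverse, List.reverse_reverse, List.map_map, pr]
  rw [List.map_congr_left (g := x) fun a ha => ?_]
  exact inv_eq_of_mul_eq_one_right (hx a (hw a ha))

theorem model {C : Cert} (hk : C.k = 7) (hr : C.rels = relW) (hw : C.wordsOK = true) :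
    Model gn C := by
  have hlt : ∀ w ∈ C.rels, ∀ a ∈ w, a < 7 := by
    have h := hw
    simp only [Cert.wordsOK, Bool.and_eq_true, List.all_eq_true, blt_iff] at h
    rw [← hk]; exact h.1
  refine ⟨hw, fun g hg => gn_sq g (hk ▸ hg), fun w hm => ?_, by rw [hk]; exact gn_gen⟩
  rw [eval_eq_one gn_sq (hlt w hm)]
  exact (invol_iff gn_sq).mp gn_invol w (hr ▸ hm)

end Group

end Cfsg.Agent.Lib.CosetTable.ONPres
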