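import Mathlib
import Cfsg.Agent.Lib.CosetTable.ONPres.Rels
import Cfsg.Agent.Lib.CosetTable.ON122760.Checked

/-! The action of O'N on the cosets of the subgroup generated by `a, ..., f`. -/

namespace Cfsg.Agent.Lib.CosetTable.ONPres

theorem rels_eq : ON122760.cert.rels = relW := by decide +kernel

theorem model_top : Model gn ON122760.cert := model rfl rels_eq ON122760.words_ok

theorem exists_action : ∃ φ : Cfsg.Spor.ON →* Equiv.Perm (Fin ON122760.tab.n),
    ∀ g, g < ON122760.cert.k → φ (gn g) = ON122760.checked.perm g := by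
  have hx : ∀ i, i < 7 → ON122760.checked.perm i * ON122760.checked.perm i = 1 :=
    fun i hi => ON122760.checked.perm_invol hi
  have h : Invol ON122760.checked.perm := by
    rw [invol_iff hx]
    intro w hw
    have hm : w ∈ ON122760.cert.rels := rels_eq ▸ hw
    have hl : ∀ a ∈ w, a < 7 := by
      have h := ON122760.words_ok
      simp only [Cert.wordsOK, Bool.and_eq_true, List.all_eq_true, blt_iff] at h
      exact h.1 w hm
    rw [← eval_eq_one hx hl]
    exact ON122760.checked.rel_perm ON122760.words_ok w hm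
  obtain ⟨φ, hφ⟩ := exists_hom h
  exact ⟨φ, hφ⟩

/-- the subgroup of the statements -/
theorem subgroup_eq :
    ((Subgroup.closure ({Cfsg.Spor.ON.a, Cfsg.Spor.ON.b, Cfsg.Spor.ON.c, Cfsg.Spor.ON.d,
      Cfsg.Spor.ON.e, Cfsg.Spor.ON.f} : Set (FreeGroup Cfsg.Spor.ON.Gen))).map
        (PresentedGroup.mk (Cfsg.Spor.coxRelators Cfsg.Spor.ON.edges ∪
          {r | r ∈ Cfsg.Spor.ON.extra}))) =
      wordSubgroup gn [[0], [1], [2], [3], [4], [5]] := by
  rw [MonoidHom.map_closure, wordSubgroup]
  congr 1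
  simp only [Set.image_insert_eq, Set.image_singleton]
  ext y
  simp only [Set.mem_insert_iff, Set.mem_singleton_iff, Set.mem_setOf_eq, List.mem_cons,
    List.not_mem_nil, or_false]
  constructor
  · rintro (rfl | rfl | rfl | rfl | rfl | rfl)
    exacts [⟨[0], by simp, one_mul _⟩, ⟨[1], by simp, one_mul _⟩, ⟨[2], by simp, one_mul _⟩,
      ⟨[3], by simp, one_mul _⟩, ⟨[4], by simp, one_mul _⟩, ⟨[5], by simp, one_mul _⟩]
  · rintro ⟨w, rfl | rfl | rfl | rfl | rfl | rfl, rfl⟩ <;>
      simp only [eval, one_mul] <;> simp [gn, node, PresentedGroup.of]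

theorem subs_eq : ON122760.cert.subs = [[0], [1], [2], [3], [4], [5]] := by decide +kernel

end Cfsg.Agent.Lib.CosetTable.ONPres
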