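import Mathlib
import Cfsg.Agent.Lib.CosetTable.ONPres.Index
import Cfsg.Agent.Lib.CosetTable.Big.Maximal
import Cfsg.Agent.Lib.CosetTable.Chain
import Cfsg.Agent.Lib.CosetTable.ONLevel0.Cover
import Cfsg.Agent.Lib.CosetTable.ONLevel1.Cover
import Cfsg.Agent.Lib.CosetTable.ONLevel2.Cover
import Cfsg.Agent.Lib.CosetTable.ONLevel3.Cover
import Cfsg.Agent.Lib.CosetTable.ONLevel4.Cover
import Cfsg.Agent.Lib.CosetTable.ONLevelH.Cover

/-! Upper bounds for the orders of the subgroup and of the presented O'Nan group. -/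

namespace Cfsg.Agent.Lib.CosetTable.ONPres

theorem sub_le : OrderLE gn (([0, 1, 2, 3, 4, 5] : List ℕ).map fun a => [a]) 3753792 := by
  have h0 := orderLE_step model_top [4] (by decide +kernel) ONLevel0.cover (orderLE_nil _)
  have h1 := orderLE_step model_top [4, 5] (by decide +kernel) ONLevel1.cover h0
  have h2 := orderLE_step model_top [0, 4, 5] (by decide +kernel) ONLevel2.cover h1
  have h3 := orderLE_step model_top [0, 1, 4, 5] (by decide +kernel) ONLevel3.cover h2
  have h4 := orderLE_step model_top [0, 1, 2, 4, 5] (by decide +kernel) ONLevel4.cover h3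
  exact orderLE_step model_top [0, 1, 2, 3, 4, 5] (by decide +kernel) ONLevelH.cover h4

theorem order_le : Finite Cfsg.Spor.ON ∧ Nat.card Cfsg.Spor.ON ≤ 460815505920 := by
  have h : OrderLE gn ON122760.cert.subs 3753792 := by rw [subs_eq]; exact sub_le
  exact ON122760.checked.toCover.finite_card_le model_top h

end Cfsg.Agent.Lib.CosetTable.ONPres
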