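import Mathlib

/-! Generated data: six correlations of the projective plane of order 7 and transvection words. -/

set_option maxRecDepth 10000

namespace Cfsg.Agent.Lib.CosetTable.ONPres

/-- the six permutations of points and lines -/
def permData : List ℕ := [0x3837363534333231302f2e2d2c2b2a292827262524232221201f1e1d1c1b1a191817161514131211100f0e0d0c0b0a0908070605040302010071706f6e6d6c6b6a696867666564636261605f5e5d5c5b5a595857565554535251504f4e4d4c4b4a494847464544434241403f3e3d3c3b3a39,
  0x22201e23211f1d373533383634321b19171c1a1816302e2c312f2d2b1412101513110f2927252a2826240d0b090e0c0a080407030602050100676a6669656864595c585b575a564b4e4a4d494c486e716d706c6f6b60635f625e615d5255515450534f444743464245413f3d3b403e3c3a39,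
  0x383300323437351502262e1e160d011a280c2f13210e222410192d031c12291f08042c310a251b06200f232b270514091807110b171d302a36716c396b6d706e4e3b5f67574f463a536145684c5a475b5d4952663c554b6258413d656a435e543f59485c64603e4d4251404a44505669636f,
  0x15272d1b2133071c121f29362c04232e11371a25032a1934142f1e0631352622131705382018302810020e0b0a0d0c0900321d162b240f01084e6066545a6c40554b58626f653d5c674a70535e3c63526d4d68573f6a6e5f5b4c503e7159516961493b474443464542396b564f645d483a41,
  0x3837363534333220231f221e211d181a1c17191b16302e2c312f2d2b282529262a27241011121314150f02030405060701090a0b0c0d0e080071706f6e6d6c6b595c585b575a565153555052544f6967656a686664615e625f63605d494a4b4c4d4e483b3c3d3e3f403a4243444546474139,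
  0x38201830281002313526221317052a1934142f1e06232e11371a25031c121f29362c0415272d1b2133070e0b0a0d0c09000f242b161d3201087159516961493b6a6e5f5b4c503e63526d4d68573f5c674a70535e3c554b58626f653d4e6066545a6c4047444346454239485d644f566b3a41]

/-- normalised vectors -/
def ptData : ℕ := 0x6106005f05e05d05c05b05a05905805705605505405305205105004f04e04d04c04b04a04904804704604504404304204104003f03e03d03c03b03a03903803703603503403303203100d00c00b00a009008007001

/-- number of the point of a vector -/
def normData : ℕ := 0x1011121314150f1718191a1b1c161e1f202122231d25262728292a242c2d2e2f30312b33343536373832090a0b0c0d0e08282529262a27241310141115120f2f2c302d312e2b1a171b181c191636333734383532211e221f23201d0c090d0a0e0b08302e2c312f2d2b22201e23211f1d1412101513110f373533383634322927252a2826241b19171c1a18160d0b090e0c0a08181a1c17191b1626282a25272924343638333537321113151012140f1f21231e20221d2d2f312c2e302b0a0c0e090b0d0820231f221e211d35383437333632191c181b171a162e312d302c2f2b1215111410130f272a26292528240b0e0a0d090c083837363534333231302f2e2d2c2b2a292827262524232221201f1e1d1c1b1a191817161514131211100f0e0d0c0b0a090802030405060701050206030704010604020705030103050702040601040703060205010706050403020100000000000000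

/-- words for the elementary transvections -/
def tvWord : List (List ℕ) := [[],
  [1, 2, 3, 2, 1, 3, 4, 3, 2, 1, 3, 2, 1, 4, 3, 2, 1, 3, 2, 4, 0, 3, 2, 1],
  [0, 1, 0, 2, 4, 3, 2, 1, 5, 4, 3, 2, 1, 3, 2, 1, 4, 3, 2, 1, 0, 3, 2, 4, 3, 2, 1, 0, 3, 4],
  [0, 1, 0, 2, 3, 2, 1, 4, 3, 2, 1, 3, 2, 1, 3, 4, 3, 2, 3, 4, 1, 2, 3, 2, 1, 0],
  [],
  [1, 0, 3, 2, 3, 2, 1, 4, 3, 2, 1, 3, 2, 1, 4, 3, 2, 1, 3, 4, 0, 2, 3, 2, 1, 5],
  [1, 0, 4, 3, 2, 3, 2, 1, 4, 3, 2, 1, 3, 2, 1, 4, 3, 2, 1, 3, 0, 2, 4, 3, 2, 1, 5, 4],
  [0, 1, 0, 2, 3, 2, 1, 5, 4, 3, 2, 1, 3, 2, 1, 4, 3, 2, 1, 3, 0, 2, 4, 3, 2, 1, 0, 3],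
  []]

end Cfsg.Agent.Lib.CosetTable.ONPres
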