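import Mathlib
import Cfsg.Agent.Lib.LinGroup.Generation
import Cfsg.Agent.Lib.CosetTable.ONPres.PointData
import Cfsg.Agent.Lib.CosetTable.ONPres.Rels

/-! `PSL(3, 7)` on the points and lines of its plane. -/

set_option maxRecDepth 4000

namespace Cfsg.Agent.Lib.CosetTable.ONPres

open Matrix

noncomputable section

theorem prime_seven : Fact (Nat.Prime 7) := ⟨by norm_num⟩

attribute [local instance] prime_seven

/-- vectors -/
abbrev V7 : Type := Fin 3 → ZMod 7

/-- the matrix group -/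
abbrev SL37 : Type := Matrix.SpecialLinearGroup (Fin 3) (ZMod 7)

/-- number of the point of a vector -/
def nrm (v : V7) : Fin 57 :=
  ⟨Nat.land (Nat.shiftRight normData (((v 0).val * 49 + (v 1).val * 7 + (v 2).val) * 8)) 255 % 57,
    Nat.mod_lt _ (by norm_num)⟩

/-- a vector of a point -/
def pt (q : Fin 57) : V7 :=
  let c := Nat.land (Nat.shiftRight ptData (q.val * 12)) 4095
  ![((c / 49 : ℕ) : ZMod 7), ((c / 7 % 7 : ℕ) : ZMod 7), ((c % 7 : ℕ) : ZMod 7)]

theorem pt_ne_zero : ∀ q : Fin 57, pt q ≠ 0 := by decide +kernel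

theorem nrm_pt : ∀ q : Fin 57, nrm (pt q) = q := by decide +kernel

theorem pt_nrm_aux : ∀ a b c : ZMod 7, (a ≠ 0 ∨ b ≠ 0 ∨ c ≠ 0) →
    ∃ l : ZMod 7, l ≠ 0 ∧ pt (nrm ![a, b, c]) = l • ![a, b, c] := by
  decide +kernel

theorem nrm_smul_aux : ∀ a b c l : ZMod 7, l ≠ 0 → nrm (l • ![a, b, c]) = nrm ![a, b, c] := by
  decide +kernel

theorem vec_eta (v : V7) : ![v 0, v 1, v 2] = v := by
  ext i; fin_cases i <;> rfl

theorem pt_nrm {v : V7} (hv : v ≠ 0) : ∃ l : ZMod 7, l ≠ 0 ∧ pt (nrm v) = l • v := by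
  rw [← vec_eta v]
  refine pt_nrm_aux _ _ _ ?_
  by_contra h
  push Not at h
  exact hv (by rw [← vec_eta v, h.1, h.2.1, h.2.2]; ext i; fin_cases i <;> rfl)

theorem nrm_smul {l : ZMod 7} (hl : l ≠ 0) (v : V7) : nrm (l • v) = nrm v := by
  rw [← vec_eta v]; exact nrm_smul_aux _ _ _ _ hl

/-- action of a matrix on points -/
def actPt (M : SL37) (q : Fin 57) : Fin 57 := nrm ((M : Matrix (Fin 3) (Fin 3) (ZMod 7)) *ᵥ pt q)

theorem mulVec_ne_zero (M : SL37) {v : V7} (hv : v ≠ 0) :
    (M : Matrix (Fin 3) (Fin 3) (ZMod 7)) *ᵥ v ≠ 0 := by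
  intro h
  apply hv
  have e := congrArg (fun w => ((M⁻¹ : SL37) : Matrix (Fin 3) (Fin 3) (ZMod 7)) *ᵥ w) h
  simp only [Matrix.mulVec_mulVec, Matrix.mulVec_zero] at e
  rwa [← Matrix.SpecialLinearGroup.coe_mul, inv_mul_cancel, Matrix.SpecialLinearGroup.coe_one,
    Matrix.one_mulVec] at e

theorem actPt_one (q : Fin 57) : actPt 1 q = q := by simp [actPt, nrm_pt]

theorem actPt_mul (M N : SL37) (q : Fin 57) : actPt (M * N) q = actPt M (actPt N q) := by
  obtain ⟨l, hl, e⟩ := pt_nrm (mulVec_ne_zero N (pt_ne_zero q))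
  simp only [actPt]
  rw [e, Matrix.mulVec_smul, nrm_smul hl, Matrix.mulVec_mulVec, Matrix.SpecialLinearGroup.coe_mul]

/-- the action on points as a homomorphism -/
def ptPerm : SL37 →* Equiv.Perm (Fin 57) where
  toFun M :=
    { toFun := actPt M
      invFun := actPt M⁻¹
      left_inv := fun q => by rw [← actPt_mul, inv_mul_cancel, actPt_one]
      right_inv := fun q => by rw [← actPt_mul, mul_inv_cancel, actPt_one] }
  map_one' := Equiv.ext fun q => actPt_one q
  map_mul' M N := Equiv.ext fun q => actPt_mul M N q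

/-- inverse transpose -/
def invTr : SL37 →* SL37 where
  toFun M := M⁻¹.transpose
  map_one' := Subtype.ext (by simp)
  map_mul' M N := Subtype.ext (by simp [Matrix.transpose_mul])

/-- the action on points and lines -/
def eta : SL37 →* Equiv.Perm (Fin 114) :=
  ((finSumFinEquiv (m := 57) (n := 57)).permCongrHom.toMonoidHom.comp
    (Equiv.Perm.sumCongrHom (Fin 57) (Fin 57))).comp (ptPerm.prod (ptPerm.comp invTr))

theorem eta_eq_one_iff (M : SL37) :
    eta M = 1 ↔ ptPerm M = 1 ∧ ptPerm (invTr M) = 1 := by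
  simp only [eta, MonoidHom.coe_comp, Function.comp_apply, MulEquiv.coe_toMonoidHom,
    EmbeddingLike.map_eq_one_iff]
  rw [map_eq_one_iff _ Equiv.Perm.sumCongrHom_injective]
  simp [Prod.ext_iff]

theorem ptPerm_scalar (M : SL37) (r : ZMod 7)
    (h : (M : Matrix (Fin 3) (Fin 3) (ZMod 7)) = Matrix.scalar (Fin 3) r) : ptPerm M = 1 := by
  have hr : r ≠ 0 := by
    intro h0
    have hd := M.2
    rw [h, h0] at hd
    simp at hd
  refine Equiv.ext fun q => ?_
  show actPt M q = q
  simp only [actPt, h, Matrix.scalar_apply]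
  rw [show (Matrix.diagonal fun _ : Fin 3 => r) *ᵥ pt q = r • pt q by
    ext i; simp [Matrix.mulVec_diagonal], nrm_smul hr, nrm_pt]

theorem eta_ker : eta.ker = Subgroup.center SL37 := by
  ext M
  rw [MonoidHom.mem_ker, eta_eq_one_iff]
  constructor
  · rintro ⟨h, -⟩
    have key : ∀ v : V7, v ≠ 0 → ∃ l : ZMod 7,
        (M : Matrix (Fin 3) (Fin 3) (ZMod 7)) *ᵥ v = l • v := by
      intro v hv
      have e : actPt M (nrm v) = nrm v := Equiv.congr_fun h (nrm v)
      obtain ⟨l, hl, e1⟩ := pt_nrm hv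
      simp only [actPt, e1, Matrix.mulVec_smul, nrm_smul hl] at e
      obtain ⟨l', hl', e2⟩ := pt_nrm (mulVec_ne_zero M hv)
      rw [e, e1] at e2
      refine ⟨l'⁻¹ * l, ?_⟩
      rw [mul_smul, e2, smul_smul, inv_mul_cancel₀ hl', one_smul]
    obtain ⟨l0, k0⟩ := key ![1, 0, 0] (by decide)
    obtain ⟨l1, k1⟩ := key ![0, 1, 0] (by decide)
    obtain ⟨l2, k2⟩ := key ![0, 0, 1] (by decide)
    obtain ⟨l3, k3⟩ := key ![1, 1, 0] (by decide)
    obtain ⟨l4, k4⟩ := key ![1, 0, 1] (by decide)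
    simp only [funext_iff, Fin.forall_fin_succ, Matrix.mulVec, dotProduct, Fin.sum_univ_three,
      IsEmpty.forall_iff, and_true] at k0 k1 k2 k3 k4
    simp at k0 k1 k2 k3 k4
    obtain ⟨a0, b0, c0⟩ := k0
    obtain ⟨a1, b1, c1⟩ := k1
    obtain ⟨a2, b2, c2⟩ := k2
    obtain ⟨a3, b3, c3⟩ := k3
    obtain ⟨a4, b4, c4⟩ := k4
    simp only [a0, b0, c0, a1, b1, c1, a2, b2, c2, add_zero, zero_add] at a3 b3 a4 c4
    have hM : (M : Matrix (Fin 3) (Fin 3) (ZMod 7)) = Matrix.scalar (Fin 3) l0 := by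
      ext i j
      fin_cases i <;> fin_cases j <;> simp_all
    refine Matrix.SpecialLinearGroup.mem_center_iff.mpr ⟨l0, ?_, hM.symm⟩
    have hd := M.2
    rw [hM] at hd
    simpa using hd
  · intro hM
    obtain ⟨r, -, hr⟩ := Matrix.SpecialLinearGroup.mem_center_iff.mp hM
    refine ⟨ptPerm_scalar M r hr.symm, ?_⟩
    obtain ⟨s, -, hs⟩ := Matrix.SpecialLinearGroup.mem_center_iff.mp (inv_mem hM)
    refine ptPerm_scalar _ s ?_
    show ((M⁻¹ : SL37).transpose : Matrix (Fin 3) (Fin 3) (ZMod 7)) = _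
    rw [Matrix.SpecialLinearGroup.coe_transpose, ← hs, Matrix.scalar_apply,
      Matrix.diagonal_transpose]

/-- the range of the action is `PSL(3, 7)` -/
theorem eta_range_equiv :
    Nonempty (eta.range ≃* Matrix.ProjectiveSpecialLinearGroup (Fin 3) (ZMod 7)) :=
  ⟨(QuotientGroup.quotientKerEquivRange eta).symm.trans
    (QuotientGroup.quotientMulEquivOfEq eta_ker)⟩

theorem card_psl37 :
    Nat.card (Matrix.ProjectiveSpecialLinearGroup (Fin 3) (ZMod 7)) = 1876896 := by
  have h := LinGroup.card_PSL_mul (F := ZMod 7) 3 (by norm_num)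
  simp [Fin.prod_univ_three, ZMod.card] at h
  norm_num at h
  rw [Nat.card_eq_fintype_card]
  omega

/-- permutations of the six generators -/
def permFun (k : ℕ) (i : Fin 114) : Fin 114 :=
  ⟨Nat.land (Nat.shiftRight (permData.getD k 0) (i.val * 8)) 255 % 114, Nat.mod_lt _ (by norm_num)⟩

theorem permFun_invol : ∀ k : Fin 6, ∀ i, permFun k (permFun k i) = i := by decide +kernel

/-- the six correlations -/
def pp (k : Fin 6) : Equiv.Perm (Fin 114) := Function.Involutive.toPerm _ (permFun_invol k)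

/-- transvection `i j` with entry `1` -/
def tv (i j : Fin 3) : SL37 :=
  if h : i = j then 1 else Matrix.SpecialLinearGroup.transvection h 1

theorem eta_apply (M : SL37) (i : Fin 114) :
    eta M i = finSumFinEquiv (Sum.map (actPt M) (actPt (invTr M))
      ((finSumFinEquiv (m := 57) (n := 57)).symm i)) := rfl

theorem invTr_tv {i j : Fin 3} (h : i ≠ j) :
    ((invTr (Matrix.SpecialLinearGroup.transvection h (1 : ZMod 7)) : SL37) :
      Matrix (Fin 3) (Fin 3) (ZMod 7)) = Matrix.transvection j i (-1) := by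
  show ((((Matrix.SpecialLinearGroup.transvection h (1 : ZMod 7))⁻¹ : SL37).transpose : SL37) :
      Matrix (Fin 3) (Fin 3) (ZMod 7)) = _
  rw [Matrix.SpecialLinearGroup.transvection_inv, Matrix.SpecialLinearGroup.coe_transpose,
    LinGroup.coe_transvection, Matrix.transvection, Matrix.transvection, Matrix.transpose_add,
    Matrix.transpose_one, Matrix.transpose_single]

/-- composite of a word in the correlations, applied to a point -/
def runWord (w : List ℕ) (i : Fin 114) : Fin 114 := w.foldr (fun k x => permFun k x) i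

/-- the image of an elementary transvection -/
def tvImage (i j : Fin 3) (x : Fin 114) : Fin 114 :=
  finSumFinEquiv (Sum.map (fun q => nrm (Matrix.transvection i j (1 : ZMod 7) *ᵥ pt q))
    (fun q => nrm (Matrix.transvection j i (-1 : ZMod 7) *ᵥ pt q))
    ((finSumFinEquiv (m := 57) (n := 57)).symm x))

theorem tvImage_eq : ∀ i j : Fin 3, i ≠ j → ∀ x,
    runWord (tvWord.getD (3 * i.val + j.val) []) x = tvImage i j x := by
  decide +kernel

theorem tvWord_ok : tvWord.all (fun w => w.all (fun a => decide (a < 6)) && w.length % 2 == 0) =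
    true := by decide +kernel

end

end Cfsg.Agent.Lib.CosetTable.ONPres
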