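import Mathlib
import Cfsg.Agent.Lib.CosetTable.ONPres.Plane
import Cfsg.Agent.Lib.CosetTable.Chain
import Cfsg.Agent.Lib.CosetTable.Presentation
import Cfsg.Agent.Lib.CosetTable.ONLevel0.Cover
import Cfsg.Agent.Lib.CosetTable.ONLevel1.Cover
import Cfsg.Agent.Lib.CosetTable.ONLevel2.Cover
import Cfsg.Agent.Lib.CosetTable.ONLevel3.Cover
import Cfsg.Agent.Lib.CosetTable.ONLevel4.Cover
import Cfsg.Agent.Lib.CosetTable.ONLevelH.Cover

/-! The presentation of `L3(7):2` on six involutions. -/

set_option maxRecDepth 4000

namespace Cfsg.Agent.Lib.CosetTable.ONPres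

attribute [local instance] prime_seven

/-- the presentation of the subgroup -/
def pres6 : Pres (Fin 6) where
  k := 6
  gen n := if h : n < 6 then ⟨n, h⟩ else 0
  idx i := i.val
  edges := [(0, 3, 1), (1, 3, 2), (2, 8, 3), (3, 3, 4), (4, 3, 5)]
  extraE := [.mul (.mul (.of 0) (.of 5)) (.inv (.pow (.mul (.of 2) (.of 3)) 4))]
  subsE := []

/-- its further relator -/
def extra6 : List (FreeGroup (Fin 6)) :=
  [(FreeGroup.of 0 * FreeGroup.of 5) * ((FreeGroup.of 2 * FreeGroup.of 3) ^ 4)⁻¹]

theorem pres6_good : pres6.Good where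
  gen_idx x := by simp [pres6]
  idx_lt x := x.isLt
  idx_gen := by
    intro n hn
    have hn' : n < 6 := hn
    simp [pres6, hn']
  mem_nodes x := by revert x; decide

theorem extra6_eq : pres6.extraE.map (WExp.free pres6.gen) = extra6 := rfl

/-- the presented group -/
abbrev P6 : Type := pres6.Grp extra6

theorem model6 : Model (pres6.gens extra6) ONLevelH.cert :=
  Pres.model pres6_good extra6_eq rfl (by decide +kernel) ONLevelH.words_ok

theorem card_P6_le : Finite P6 ∧ Nat.card P6 ≤ 3753792 := by
  have h0 := orderLE_step model6 [4] (by decide +kernel) ONLevel0.cover (orderLE_nil _)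
  have h1 := orderLE_step model6 [4, 5] (by decide +kernel) ONLevel1.cover h0
  have h2 := orderLE_step model6 [0, 4, 5] (by decide +kernel) ONLevel2.cover h1
  have h3 := orderLE_step model6 [0, 1, 4, 5] (by decide +kernel) ONLevel3.cover h2
  have h4 := orderLE_step model6 [0, 1, 2, 4, 5] (by decide +kernel) ONLevel4.cover h3
  have h5 := orderLE_step model6 [0, 1, 2, 3, 4, 5] (by decide +kernel) ONLevelH.cover h4
  exact finite_card_top model6 h5

/-- seven letters as six generators and a filler -/
noncomputable def gens6 (n : ℕ) : P6 := pres6.gens extra6 n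

theorem lift6 {H : Type*} [Group H] (y : Fin 6 → H)
    (hc : ∀ i j : Fin 6, (y i * y j) ^ Cfsg.Spor.coxLabel pres6.edges i j = 1)
    (he : (y 0 * y 5) * ((y 2 * y 3) ^ 4)⁻¹ = 1) :
    ∃ f : P6 →* H, ∀ i, f (PresentedGroup.of i) = y i := by
  have hrel : ∀ r ∈ Cfsg.Spor.coxRelators pres6.edges ∪ {r | r ∈ extra6},
      FreeGroup.lift y r = 1 := by
    rintro r (⟨a, -, b, -, rfl⟩ | hm)
    · rw [map_pow, map_mul, FreeGroup.lift_apply_of, FreeGroup.lift_apply_of]; exact hc a b
    · change r ∈ extra6 at hm
      simp only [extra6, List.mem_cons, List.not_mem_nil, or_false] at hm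
      subst hm
      simpa using he
  exact ⟨PresentedGroup.toGroup hrel, fun i => PresentedGroup.toGroup.of hrel⟩

theorem pp_cox : ∀ i j : Fin 6, (pp i * pp j) ^ Cfsg.Spor.coxLabel pres6.edges i j = 1 := by
  decide +kernel

theorem pp_extra : (pp 0 * pp 5) * ((pp 2 * pp 3) ^ 4)⁻¹ = 1 := by
  rw [mul_inv_eq_one]
  decide +kernel

/-- an index two subgroup of the presented group is `PSL(3, 7)` -/
theorem exists_psl : ∃ K : Subgroup P6, K.Normal ∧ K.index = 2 ∧
    Nonempty (K ≃* Matrix.ProjectiveSpecialLinearGroup (Fin 3) (ZMod 7)) := by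
  obtain ⟨hfin, hle⟩ := card_P6_le
  haveI := hfin
  obtain ⟨ψ, hψ⟩ := lift6 pp pp_cox pp_extra
  obtain ⟨ε, hε⟩ := lift6 (fun _ : Fin 6 => (-1 : ℤˣ)) (fun i j => by simp) (by simp)
  have hidx : ε.ker.index = 2 := by
    rw [Subgroup.index_ker, MonoidHom.range_eq_top.mpr ?_, Subgroup.card_top]
    · simp [Nat.card_eq_fintype_card]
    · intro u
      rcases Int.units_eq_one_or u with rfl | rfl
      · exact ⟨1, map_one ε⟩
      · exact ⟨PresentedGroup.of (0 : Fin 6), hε 0⟩
  let el : List ℕ → P6 := fun w => (w.map fun a => gens6 a).prod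
  have hrun : ∀ w : List ℕ, (∀ a ∈ w, a < 6) → ∀ x, ψ (el w) x = runWord w x := by
    intro w
    induction w with
    | nil => intro _ x; simp [el, runWord]
    | cons a w ih =>
      intro h x
      have ha : a < 6 := h a (by simp)
      simp only [el, List.map_cons, List.prod_cons, map_mul, Equiv.Perm.mul_apply]
      rw [show ψ (w.map fun a => gens6 a).prod x = runWord w x from
        ih (fun b hb => h b (List.mem_cons_of_mem _ hb)) x]
      rw [show gens6 a = PresentedGroup.of (pres6.gen a) from rfl, hψ]
      simp only [pres6, dif_pos ha]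
      rfl
  have hpar : ∀ w : List ℕ, ε (el w) = (-1) ^ w.length := by
    intro w
    induction w with
    | nil => simp [el]
    | cons a w ih =>
      simp only [el, List.map_cons, List.prod_cons, map_mul, List.length_cons, pow_succ']
      rw [show ε (w.map fun a => gens6 a).prod = _ from ih]
      rw [show gens6 a = PresentedGroup.of (pres6.gen a) from rfl, hε]
  have hsub : eta.range ≤ ε.ker.map ψ := by
    rw [MonoidHom.range_eq_map,
      show (⊤ : Subgroup SL37) = _ from
        (LinGroup.closure_transvections_eq_top (ι := Fin 3) (F := ZMod 7)).symm,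
      MonoidHom.map_closure, Subgroup.closure_le]
    rintro _ ⟨_, ⟨i, j, hij, c, rfl⟩, rfl⟩
    set w := tvWord.getD (3 * i.val + j.val) [] with hw
    have hok : w.all (fun a => decide (a < 6)) = true ∧ w.length % 2 = 0 := by
      have h := tvWord_ok
      rw [List.all_eq_true] at h
      by_cases hm : 3 * i.val + j.val < tvWord.length
      · have := h w (by rw [hw, List.getD_eq_getElem _ _ hm]; exact List.getElem_mem hm)
        simpa using this
      · rw [hw, List.getD_eq_getElem?_getD, List.getElem?_eq_none (by omega)]; simp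
    have hker : el w ∈ ε.ker := by
      rw [MonoidHom.mem_ker, hpar]
      exact Even.neg_one_pow (Nat.even_iff.mpr hok.2)
    have h1 : eta (Matrix.SpecialLinearGroup.transvection hij 1) = ψ (el w) := by
      refine Equiv.ext fun x => ?_
      rw [hrun w (fun a ha => by simpa using List.all_eq_true.mp hok.1 a ha) x, tvImage_eq i j hij x,
        eta_apply, tvImage]
      have e1 : actPt (Matrix.SpecialLinearGroup.transvection hij (1 : ZMod 7)) =
          fun q => nrm (Matrix.mulVec (Matrix.transvection i j (1 : ZMod 7)) (pt q)) := rfl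
      have e2 : actPt (invTr (Matrix.SpecialLinearGroup.transvection hij (1 : ZMod 7))) =
          fun q => nrm (Matrix.mulVec (Matrix.transvection j i (-1 : ZMod 7)) (pt q)) := by
        funext q
        rw [actPt, invTr_tv hij]
      rw [e1, e2]
    have hpow : Matrix.SpecialLinearGroup.transvection hij c =
        Matrix.SpecialLinearGroup.transvection hij (1 : ZMod 7) ^ c.val := by
      have hn : ∀ n : ℕ, Matrix.SpecialLinearGroup.transvection hij (n : ZMod 7) =
          Matrix.SpecialLinearGroup.transvection hij (1 : ZMod 7) ^ n := by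
        intro n
        induction n with
        | zero => rw [Nat.cast_zero, pow_zero, Matrix.SpecialLinearGroup.transvection_coeff_zero]
        | succ n ih =>
          rw [pow_succ, ← ih]
          refine Subtype.ext ?_
          rw [Matrix.SpecialLinearGroup.coe_mul, LinGroup.coe_transvection,
            LinGroup.coe_transvection, LinGroup.coe_transvection,
            Matrix.transvection_mul_transvection_same _ _ hij, Nat.cast_succ]
      rw [← hn, ZMod.natCast_zmod_val]
    rw [SetLike.mem_coe, hpow, map_pow, h1, ← map_pow]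
    exact Subgroup.mem_map_of_mem ψ (pow_mem hker _)
  obtain ⟨e⟩ := eta_range_equiv
  have hcard : Nat.card eta.range = 1876896 := (Nat.card_congr e.toEquiv).trans card_psl37
  have hK : Nat.card ε.ker ≤ 1876896 := by
    have h := Subgroup.index_mul_card ε.ker
    rw [hidx] at h
    omega
  have hle2 : Nat.card (ε.ker.map ψ) ≤ Nat.card ε.ker :=
    Nat.card_le_card_of_surjective _ (ψ.subgroupMap_surjective ε.ker)
  have heq : eta.range = ε.ker.map ψ := Subgroup.eq_of_le_of_card_ge hsub (by omega)
  have hbij : Function.Bijective (ψ.subgroupMap ε.ker) := by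
    rw [Nat.bijective_iff_surjective_and_card]
    refine ⟨ψ.subgroupMap_surjective _, ?_⟩
    rw [← heq] at hle2 ⊢
    omega
  exact ⟨ε.ker, inferInstance, hidx, ⟨(MulEquiv.ofBijective _ hbij).trans
    ((MulEquiv.subgroupCongr heq.symm).trans e)⟩⟩

end Cfsg.Agent.Lib.CosetTable.ONPres
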